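import Cfsg.Agent.Lib.Perm.Trans.ThreeRes.Traces
import Cfsg.Agent.Lib.SU.Ind

/-!
# Invariant forms from traces
-/

set_option autoImplicit false
set_option linter.all false

namespace CfsgLib.Perm.Trans.ThreeRes

open scoped Matrix
open Matrix Cfsg.Geo CfsgLib.Perm.Trans

variable {F : Type*} [Field F] [Fintype F] {P : Subgroup (GL (Fin 3) F)}

local notation "M3" => Matrix (Fin 3) (Fin 3) F

/-- a second representation with the same traces is conjugate to the group -/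
theorem exists_intertwiner (hP : ActsAbsolutelyIrreducibly (matrixSet P)) (τ : P →* M3)
    (h : ∀ g : P, (τ g).trace = ((g : GL (Fin 3) F) : M3).trace) :
    ∃ X : M3, X.det ≠ 0 ∧ ∀ g : P, τ g * X = X * ((g : GL (Fin 3) F) : M3) := by
  classical
  obtain ⟨b, hb⟩ := exists_basis hP
  choose k hk ek using hb
  let Φ : M3 →ₗ[F] M3 := b.constr F fun i => τ ⟨k i, hk i⟩
  have hΦb : ∀ i, Φ (b i) = τ ⟨k i, hk i⟩ := fun i => b.constr_basis F _ i
  have hT : ∀ g : P, ∀ X : M3, (τ g * Φ X).trace = (((g : GL (Fin 3) F) : M3) * X).trace := by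
    intro g X
    rw [← b.sum_repr X, map_sum, Finset.mul_sum, Finset.mul_sum, Matrix.trace_sum, Matrix.trace_sum]
    refine Finset.sum_congr rfl fun i _ => ?_
    rw [map_smul, Matrix.mul_smul, Matrix.mul_smul, Matrix.trace_smul, Matrix.trace_smul, hΦb, ← map_mul, h, ← ek i]
    rfl
  have hinj : Function.Injective Φ := by
    rw [← LinearMap.ker_eq_bot, LinearMap.ker_eq_bot']
    intro X hX
    refine eq_of_trace_mul hP fun g hg => ?_
    have := hT ⟨g, hg⟩ X
    rw [hX, mul_zero, Matrix.trace_zero] at this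
    rw [zero_mul, Matrix.trace_zero, Matrix.trace_mul_comm, ← this]
  have hsurj := LinearMap.injective_iff_surjective.1 hinj
  have hsep : ∀ A B : M3, (∀ X, (A * Φ X).trace = (B * Φ X).trace) → A = B := fun A B hAB =>
    sub_eq_zero.1 (trace_left_eq_zero fun i j => by
      obtain ⟨X, hX⟩ := hsurj (Matrix.single i j 1)
      rw [← hX, sub_mul, Matrix.trace_sub, hAB, sub_self])
  have hext : ∀ A B : M3, (∀ g : P, (τ g * A).trace = (τ g * B).trace) → A = B := fun A B hAB =>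
    hsep A B fun X => by
      rw [← b.sum_repr X, map_sum, Finset.mul_sum, Finset.mul_sum, Matrix.trace_sum, Matrix.trace_sum]
      refine Finset.sum_congr rfl fun i _ => ?_
      rw [map_smul, Matrix.mul_smul, Matrix.mul_smul, Matrix.trace_smul, Matrix.trace_smul, hΦb,
        Matrix.trace_mul_comm, hAB, Matrix.trace_mul_comm]
  have hτ : ∀ g : P, Φ ((g : GL (Fin 3) F) : M3) = τ g := fun g => hext _ _ fun k' => by
    rw [hT, ← map_mul, h]
    rfl
  have hmul : ∀ X Y : M3, Φ (X * Y) = Φ X * Φ Y := by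
    intro X Y
    rw [← b.sum_repr X, ← b.sum_repr Y]
    simp only [Finset.sum_mul, Finset.mul_sum, map_sum, Matrix.smul_mul, Matrix.mul_smul, map_smul]
    refine Finset.sum_congr rfl fun i _ => Finset.sum_congr rfl fun j _ => ?_
    rw [hΦb, hΦb, ← ek i, ← ek j, ← Units.val_mul, ← map_mul]
    congr 2
    exact hτ ⟨k j * k i, _⟩ |>.trans rfl
  obtain ⟨w, hw⟩ : ∃ w, Φ (Matrix.single 0 0 1) *ᵥ w ≠ 0 := by
    by_contra hcon
    push Not at hcon
    have : Φ (Matrix.single 0 0 (1 : F)) = Φ 0 := by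
      rw [map_zero]; exact Matrix.ext_iff_mulVec.2 fun x => by rw [hcon, zero_mulVec]
    have h0 := congrFun (congrFun (hinj this) 0) 0
    simp at h0
  obtain ⟨X, hX⟩ : ∃ X : M3, X = Matrix.of fun l i => (Φ (Matrix.single i 0 1) *ᵥ w) l := ⟨_, rfl⟩
  have hXc : ∀ c : Fin 3 → F, X *ᵥ c = ∑ i, c i • (Φ (Matrix.single i 0 1) *ᵥ w) := fun c => by
    funext l
    simp [hX, Matrix.mulVec, dotProduct, Finset.mul_sum, Finset.sum_mul, Finset.sum_apply, mul_comm, mul_left_comm]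
  refine ⟨X, fun hdet => ?_, fun g => ?_⟩
  · obtain ⟨c, hc0, hc⟩ := Matrix.exists_mulVec_eq_zero_iff.2 hdet
    refine hc0 (funext fun j => ?_)
    have h1 := congrArg (fun v => Φ (Matrix.single 0 j 1) *ᵥ v) hc
    rw [hXc, mulVec_zero, Matrix.mulVec_sum, Finset.sum_eq_single j] at h1
    · rw [mulVec_smul, mulVec_mulVec, ← hmul, Matrix.single_mul_single_same, one_mul] at h1
      exact (smul_eq_zero.1 h1).resolve_right hw
    · intro i _ hij
      rw [mulVec_smul, mulVec_mulVec, ← hmul, Matrix.single_mul_single_of_ne (h := hij.symm), map_zero, zero_mulVec,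
        smul_zero]
    · intro hj; exact absurd (Finset.mem_univ j) hj
  · refine Matrix.ext_iff_mulVec.2 fun c => ?_
    rw [← mulVec_mulVec, ← mulVec_mulVec, hXc, hXc, Matrix.mulVec_sum]
    have hcol : ∀ i, ((g : GL (Fin 3) F) : M3) * Matrix.single i (0 : Fin 3) (1 : F) =
        ∑ l, ((g : GL (Fin 3) F) : M3) l i • Matrix.single l (0 : Fin 3) (1 : F) := by
      intro i; ext a b
      rcases eq_or_ne b 0 with rfl | hb
      · simp [Matrix.mul_apply, Matrix.single_apply, Matrix.sum_apply, Finset.sum_ite_eq, Finset.sum_ite_eq']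
      · simp [Matrix.mul_apply, Matrix.single_apply, Matrix.sum_apply, Ne.symm hb]
    refine Eq.trans (Finset.sum_congr rfl fun i _ => ?_ : _ = ∑ i, ∑ l,
      (c i * ((g : GL (Fin 3) F) : M3) l i) • (Φ (Matrix.single l 0 1) *ᵥ w)) ?_
    · rw [mulVec_smul, mulVec_mulVec, ← hτ g, ← hmul,
        show Φ (((g : GL (Fin 3) F) : M3) * Matrix.single i 0 1) =
          ∑ l, ((g : GL (Fin 3) F) : M3) l i • Φ (Matrix.single l 0 1) from
            (congrArg Φ (hcol i)).trans (by rw [map_sum]; exact Finset.sum_congr rfl fun l _ => map_smul Φ _ _),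
        Matrix.sum_mulVec, Finset.smul_sum]
      simp [Matrix.smul_mulVec, smul_smul]
    rw [Finset.sum_comm]
    refine Finset.sum_congr rfl fun l _ => ?_
    rw [← Finset.sum_smul]
    simp [Matrix.mulVec, dotProduct, mul_comm]

/-- the contragredient representation twisted by a field automorphism -/
def dualRep (σ : F ≃+* F) (P : Subgroup (GL (Fin 3) F)) : P →* M3 where
  toFun g := ((((g : GL (Fin 3) F)⁻¹ : GL (Fin 3) F) : M3).map σ)ᵀ
  map_one' := by simp [Matrix.map_one]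
  map_mul' a b := by
    rw [Subgroup.coe_mul, _root_.mul_inv_rev, Units.val_mul, Matrix.map_mul, Matrix.transpose_mul]

/-- twisted duality gives an invariant sesquilinear matrix -/
theorem exists_inv_matrix (σ : F ≃+* F) (hinv : ∀ a, σ (σ a) = a) (hP : ActsAbsolutelyIrreducibly (matrixSet P))
    (h : ∀ g ∈ P, ((g⁻¹ : GL (Fin 3) F) : M3).trace = σ (g : M3).trace) :
    ∃ X : M3, X.det ≠ 0 ∧ (∀ g ∈ P, ((g : M3).map σ)ᵀ * X * (g : M3) = X) ∧
      ∃ c : F, (X.map σ)ᵀ = c • X ∧ σ c * c = 1 := by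
  classical
  obtain ⟨X, hX, hXg⟩ := exists_intertwiner hP (dualRep σ P) fun g => by
    show ((((g : GL (Fin 3) F)⁻¹ : GL (Fin 3) F) : M3).map σ)ᵀ.trace = _
    rw [Matrix.trace_transpose,
      show ∀ A : M3, (A.map σ).trace = σ A.trace from fun A => by simp [Matrix.trace, map_sum],
      h _ g.2, hinv]
  have hrel : ∀ g ∈ P, ((g : M3).map σ)ᵀ * X * (g : M3) = X := by
    intro g hg
    have h1 : ((((g : GL (Fin 3) F)⁻¹ : GL (Fin 3) F) : M3).map σ)ᵀ * X = X * (g : M3) := hXg ⟨g, hg⟩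
    rw [mul_assoc, ← h1, ← mul_assoc, ← Matrix.transpose_mul, ← Matrix.map_mul, Units.inv_mul,
      Matrix.map_one _ (map_zero _) (map_one _), Matrix.transpose_one, one_mul]
  obtain ⟨Y, hY⟩ : ∃ Y : M3, Y = (X.map σ)ᵀ := ⟨_, rfl⟩
  have hmm : ∀ A : M3, (A.map σ).map σ = A := fun A => by ext i j; simp [hinv]
  have hrelY : ∀ g ∈ P, ((g : M3).map σ)ᵀ * Y * (g : M3) = Y := by
    intro g hg
    have h1 := congrArg (fun A : M3 => (A.map σ)ᵀ) (hrel g hg)
    simp only [Matrix.map_mul, Matrix.transpose_mul, Matrix.transpose_map, hmm, Matrix.transpose_transpose] at h1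
    rw [hY, mul_assoc]
    exact h1
  have hu : IsUnit X.det := isUnit_iff_ne_zero.2 hX
  obtain ⟨c, hc⟩ := hP.2 (X⁻¹ * Y) (by
    rintro _ ⟨g, hg, rfl⟩
    have hgX : X⁻¹ * ((g : M3).map σ)ᵀ * X = ((g⁻¹ : GL (Fin 3) F) : M3) := by
      calc X⁻¹ * ((g : M3).map σ)ᵀ * X = X⁻¹ * (((g : M3).map σ)ᵀ * X * (g : M3)) * ((g⁻¹ : GL (Fin 3) F) : M3) := by
            simp only [mul_assoc, Units.mul_inv, mul_one]
        _ = _ := by rw [hrel g hg, Matrix.nonsing_inv_mul _ hu, one_mul]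
    calc X⁻¹ * Y * (g : M3) = X⁻¹ * Y * (g : M3) := rfl
      _ = (g : M3) * ((X⁻¹ * ((g : M3).map σ)ᵀ * X) * (X⁻¹ * Y)) * (g : M3) := by
          rw [hgX, ← mul_assoc, Units.mul_inv, one_mul]
      _ = (g : M3) * (X⁻¹ * (((g : M3).map σ)ᵀ * Y * (g : M3))) := by
          simp only [mul_assoc, Matrix.mul_nonsing_inv_cancel_left _ _ hu]
      _ = (g : M3) * (X⁻¹ * Y) := by rw [hrelY g hg])
  have hYc : Y = c • X := by
    have h1 := congrArg (fun A => X * A) hc
    simpa [Matrix.mul_nonsing_inv_cancel_left _ _ hu] using h1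
  refine ⟨X, hX, hrel, c, hY ▸ hYc, ?_⟩
  have h2 : X = σ c • Y := by
    ext i j
    have h1 := congrArg σ (congrFun (congrFun hYc j) i)
    simp only [hY, Matrix.transpose_apply, Matrix.map_apply, Matrix.smul_apply, smul_eq_mul, map_mul, hinv] at h1 ⊢
    exact h1
  rw [hYc, smul_smul] at h2
  by_contra hne
  refine hX ?_
  have h3 : (1 - σ c * c) • X = 0 := by rw [sub_smul, one_smul, ← h2, sub_self]
  rw [(smul_eq_zero.1 h3).resolve_left (sub_ne_zero.2 (Ne.symm hne))]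
  exact Matrix.det_zero

/-- real traces give an invariant quadratic form -/
theorem fixesQuad_of_traces (h2 : (2 : F) ≠ 0) (hP : ActsAbsolutelyIrreducibly (matrixSet P))
    (h : ∀ g ∈ P, ((g⁻¹ : GL (Fin 3) F) : M3).trace = (g : M3).trace) : FixesQuad P := by
  classical
  obtain ⟨X, hX, hrel, c, hc, hcc⟩ := exists_inv_matrix (RingEquiv.refl F) (fun _ => rfl) hP h
  have hmap : ∀ A : M3, A.map (RingEquiv.refl F) = A := fun A => by ext i j; rfl
  rw [hmap] at hc
  have hsym : Xᵀ = X := by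
    rcases mul_self_eq_one_iff.1 (show c * c = 1 from hcc) with rfl | rfl
    · rw [hc, one_smul]
    · exfalso
      have h1 := congrArg Matrix.det hc
      rw [Matrix.det_transpose, Matrix.det_smul, Fintype.card_fin] at h1
      exact mul_ne_zero h2 hX (by linear_combination h1)
  have hpol : ∀ u v, QuadraticMap.polar (fun w : Fin 3 → F => w ⬝ᵥ (X *ᵥ w)) u v = 2 * (u ⬝ᵥ (X *ᵥ v)) := by
    intro u v
    have hs : v ⬝ᵥ (X *ᵥ u) = u ⬝ᵥ (X *ᵥ v) := by
      rw [Matrix.dotProduct_mulVec, dotProduct_comm, ← Matrix.mulVec_transpose, hsym]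
    simp only [QuadraticMap.polar, mulVec_add, add_dotProduct, dotProduct_add, hs]
    ring
  refine ⟨fun w => w ⬝ᵥ (X *ᵥ w), ⟨fun a v => ?_, ⟨?_, ?_, ?_, ?_⟩, fun v hv => ?_⟩, ?_⟩
  · show (a • v) ⬝ᵥ (X *ᵥ (a • v)) = a ^ 2 * (v ⬝ᵥ (X *ᵥ v))
    rw [mulVec_smul, smul_dotProduct, dotProduct_smul, smul_eq_mul, smul_eq_mul]; ring
  · intro x y v; rw [hpol, hpol, hpol, add_dotProduct, mul_add]
  · intro a x v; rw [hpol, hpol, smul_dotProduct, smul_eq_mul]; ring
  · intro v x y; rw [hpol, hpol, hpol, mulVec_add, dotProduct_add, mul_add]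
  · intro a v x; rw [hpol, hpol, mulVec_smul, dotProduct_smul, smul_eq_mul]; ring
  · have hXv : X *ᵥ v ≠ 0 := fun e => hX (Matrix.exists_mulVec_eq_zero_iff.1 ⟨v, hv, e⟩)
    obtain ⟨i, hi⟩ := Function.ne_iff.1 hXv
    refine ⟨⟨Pi.single i 1, ?_⟩, ⟨Pi.single i 1, ?_⟩⟩
    · rw [hpol, single_one_dotProduct]
      exact mul_ne_zero h2 hi
    · rw [hpol, Matrix.dotProduct_mulVec, ← Matrix.mulVec_transpose, hsym, dotProduct_single_one]
      exact mul_ne_zero h2 hi
  · rintro _ ⟨g, hg, rfl⟩ v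
    show ((g : M3) *ᵥ v) ⬝ᵥ (X *ᵥ ((g : M3) *ᵥ v)) = v ⬝ᵥ (X *ᵥ v)
    have h1 := hrel g hg
    rw [hmap] at h1
    conv_rhs => rw [← h1]
    simp only [mul_assoc, ← mulVec_mulVec]
    conv_rhs => rw [Matrix.dotProduct_mulVec, Matrix.vecMul_transpose]

/-- twisted real traces give an invariant unitary form -/
theorem fixesHerm_of_traces (σ : F ≃+* F) (hσ : σ ≠ RingEquiv.refl F) (hinv : ∀ a, σ (σ a) = a)
    (hP : ActsAbsolutelyIrreducibly (matrixSet P))
    (h : ∀ g ∈ P, ((g⁻¹ : GL (Fin 3) F) : M3).trace = σ (g : M3).trace) : FixesHerm P := by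
  classical
  obtain ⟨X, hX, hrel, c, hc, hcc⟩ := exists_inv_matrix σ hinv hP h
  obtain ⟨a, ha⟩ : ∃ a : F, a + c * σ a ≠ 0 := by
    by_contra hcon
    push Not at hcon
    refine hσ (RingEquiv.ext fun x => ?_)
    have h1 := hcon x
    have h0 := hcon 1
    rw [map_one, mul_one] at h0
    rw [RingEquiv.refl_apply]
    linear_combination (-1 : F) * h1 + σ x * h0
  obtain ⟨μ, hμ⟩ : ∃ μ, μ = a + c * σ a := ⟨_, rfl⟩
  obtain ⟨Z, hZ⟩ : ∃ Z : M3, Z = μ • X := ⟨_, rfl⟩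
  have hμc : σ μ * c = μ := by
    rw [hμ, map_add, map_mul, hinv]
    linear_combination a * hcc
  have hZh : (Z.map σ)ᵀ = Z := by
    rw [hZ, show (μ • X).map σ = σ μ • X.map σ by ext i j; simp, Matrix.transpose_smul, hc, smul_smul, hμc]
  have hZrel : ∀ g ∈ P, ((g : M3).map σ)ᵀ * Z * (g : M3) = Z := fun g hg => by
    rw [hZ, Matrix.mul_smul, Matrix.smul_mul, hrel g hg]
  have hZd : Z.det ≠ 0 := by
    rw [hZ, Matrix.det_smul]; exact mul_ne_zero (pow_ne_zero _ (hμ ▸ ha)) hX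
  have hs : ∀ (A : M3) (w : Fin 3 → F), (fun i => σ ((A *ᵥ w) i)) = A.map σ *ᵥ fun i => σ (w i) := fun A w => by
    funext i; simp [Matrix.mulVec, dotProduct, map_sum, map_mul]
  refine ⟨σ, fun u v => (fun i => σ (v i)) ⬝ᵥ (Z *ᵥ u),
    ⟨hσ, hinv, fun x y v => ?_, fun a x v => ?_, fun v w => ?_, fun v hv => ?_⟩, ?_⟩
  · show _ ⬝ᵥ (Z *ᵥ (x + y)) = _; rw [mulVec_add, dotProduct_add]
  · show _ ⬝ᵥ (Z *ᵥ (a • x)) = _; rw [mulVec_smul, dotProduct_smul, smul_eq_mul]
  · show (fun i => σ (w i)) ⬝ᵥ (Z *ᵥ v) = σ ((fun i => σ (v i)) ⬝ᵥ (Z *ᵥ w))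
    have e : σ ((fun i => σ (v i)) ⬝ᵥ (Z *ᵥ w)) = v ⬝ᵥ (Z.map σ *ᵥ fun i => σ (w i)) := by
      rw [← hs]; simp [dotProduct, map_sum, map_mul, hinv]
    rw [e, Matrix.dotProduct_mulVec v, ← Matrix.mulVec_transpose, hZh, dotProduct_comm]
  · have hZv : Z *ᵥ v ≠ 0 := fun e => hZd (Matrix.exists_mulVec_eq_zero_iff.1 ⟨v, hv, e⟩)
    have hσv : (fun i => σ (v i)) ≠ 0 := fun e => hv (funext fun i => σ.injective (by
      rw [Pi.zero_apply, map_zero]; exact congrFun e i))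
    have hvZ : (fun i => σ (v i)) ᵥ* Z ≠ 0 := fun e => hZd (Matrix.exists_vecMul_eq_zero_iff.1 ⟨_, hσv, e⟩)
    obtain ⟨i, hi⟩ := Function.ne_iff.1 hvZ
    obtain ⟨j, hj⟩ := Function.ne_iff.1 hZv
    refine ⟨⟨Pi.single i 1, ?_⟩, ⟨Pi.single j 1, ?_⟩⟩
    · rw [Matrix.dotProduct_mulVec, dotProduct_single_one]; exact hi
    · rw [show (fun k => σ ((Pi.single j 1 : Fin 3 → F) k)) = Pi.single j 1 from funext fun k => by
        simp [Pi.single_apply, apply_ite σ], single_one_dotProduct]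
      exact hj
  · rintro _ ⟨g, hg, rfl⟩ u v
    show (fun i => σ (((g : M3) *ᵥ v) i)) ⬝ᵥ (Z *ᵥ ((g : M3) *ᵥ u)) = _
    rw [hs]
    conv_rhs => rw [← hZrel g hg]
    simp only [mul_assoc, ← mulVec_mulVec]
    conv_rhs => rw [Matrix.dotProduct_mulVec, Matrix.vecMul_transpose]

/-- the trace of the inverse of a unitary element -/
theorem trace_inv_of_mem_GU {q : ℕ} (hF : Fintype.card F = q ^ 2) {g : GL (Fin 3) F} (hg : g ∈ Cfsg.GU 3 F q) :
    ((g⁻¹ : GL (Fin 3) F) : M3).trace = (g : M3).trace ^ q := by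
  obtain ⟨p, hpc⟩ := CharP.exists F
  haveI : Fact p.Prime := ⟨CharP.char_is_prime F p⟩
  obtain ⟨n, -, hn⟩ := FiniteField.card F p
  obtain ⟨k, -, hk⟩ := (Nat.dvd_prime_pow Fact.out).1 (show q ∣ p ^ (n : ℕ) from by
    rw [← hn, hF]; exact Dvd.intro _ (pow_two q).symm)
  let φ : F →+* F := iterateFrobenius F p k
  have hφ : ∀ x, φ x = x ^ q := fun x => by rw [hk]; rfl
  have h1 : (g : M3)ᵀ * (g : M3).map φ = 1 := by
    ext a b
    have h := hg (Pi.single a 1) (Pi.single b 1)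
    simp only [Units.coeHom_apply, Matrix.mulVec_single_one, Cfsg.hermForm] at h
    have hr : ∑ i, (Pi.single a (1 : F) : Fin 3 → F) i * (Pi.single b (1 : F) : Fin 3 → F) i ^ q = (1 : M3) a b := by
      have hq0 : q ≠ 0 := fun e => by rw [hk, pow_eq_zero_iff'] at e; exact (Fact.out : p.Prime).ne_zero e.1
      rw [Finset.sum_eq_single a]
      · simp [Pi.single_apply, Matrix.one_apply, ite_pow, zero_pow hq0]
      · intro i _ hia; simp [Pi.single_apply, hia]
      · simp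
    rw [hr] at h
    rw [← h, Matrix.mul_apply]
    simp [hφ]
  have h2 : ((g⁻¹ : GL (Fin 3) F) : M3).map φ = (g : M3)ᵀ := by
    calc ((g⁻¹ : GL (Fin 3) F) : M3).map φ
        = ((g : M3)ᵀ * (g : M3).map φ) * ((g⁻¹ : GL (Fin 3) F) : M3).map φ := by rw [h1, one_mul]
      _ = (g : M3)ᵀ := by
          rw [mul_assoc, ← Matrix.map_mul, Units.mul_inv, Matrix.map_one _ (map_zero _) (map_one _), mul_one]
  have h3 : φ ((g⁻¹ : GL (Fin 3) F) : M3).trace = (g : M3).trace := by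
    rw [← Matrix.trace_transpose (g : M3), ← h2]
    exact AddMonoidHom.map_trace φ.toAddMonoidHom _
  rw [← h3, hφ, ← pow_mul, ← pow_two, ← hF, FiniteField.pow_card]

/-- real traces give an invariant bilinear form, in every characteristic -/
theorem exists_form_of_traces (hP : ActsAbsolutelyIrreducibly (matrixSet P))
    (h : ∀ g ∈ P, ((g⁻¹ : GL (Fin 3) F) : M3).trace = (g : M3).trace) :
    ∃ B : M3, B.det ≠ 0 ∧ (∀ g ∈ P, (g : M3)ᵀ * B * (g : M3) = B) ∧ ∃ c : F, Bᵀ = c • B ∧ c * c = 1 := by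
  obtain ⟨X, hX, hrel, c, hc, hcc⟩ := exists_inv_matrix (RingEquiv.refl F) (fun _ => rfl) hP h
  have hmap : ∀ A : M3, A.map (RingEquiv.refl F) = A := fun A => by ext i j; rfl
  rw [hmap] at hc
  exact ⟨X, hX, fun g hg => by have := hrel g hg; rwa [hmap] at this, c, hc, hcc⟩

/-- two absolutely irreducible representations with equal traces are conjugate -/
theorem conj_of_traces {X : Type*} [Group X] (r₁ r₂ : X →* GL (Fin 3) F)
    (hker : ∀ x, r₁ x = 1 → r₂ x = 1) (hP : ActsAbsolutelyIrreducibly (matrixSet r₁.range))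
    (h : ∀ x, (r₁ x : M3).trace = (r₂ x : M3).trace) : ∃ B : GL (Fin 3) F, ∀ x, B * r₁ x * B⁻¹ = r₂ x := by
  classical
  choose s hs using fun g : r₁.range => g.2
  have heq : ∀ x y, r₁ x = r₁ y → r₂ x = r₂ y := fun x y e => by
    have := hker (x * y⁻¹) (by rw [map_mul, map_inv, e, mul_inv_cancel])
    rwa [map_mul, map_inv, mul_inv_eq_one] at this
  let τ : r₁.range →* M3 :=
    { toFun := fun g => ((r₂ (s g) : GL (Fin 3) F) : M3)
      map_one' := by rw [hker (s 1) (by rw [hs]; rfl), Units.val_one]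
      map_mul' := fun a b => by
        rw [← Units.val_mul, ← map_mul]
        exact congrArg Units.val (heq _ _ (by rw [map_mul, hs, hs, hs]; rfl)) }
  obtain ⟨B, hB, hBg⟩ := exists_intertwiner hP τ fun g => by
    show ((r₂ (s g) : GL (Fin 3) F) : M3).trace = _
    rw [← h, hs]
  obtain ⟨B', hB'⟩ := (Matrix.isUnit_iff_isUnit_det B).2 (isUnit_iff_ne_zero.2 hB)
  refine ⟨B', fun x => ?_⟩
  have h1 : ((r₂ (s ⟨r₁ x, x, rfl⟩) : GL (Fin 3) F) : M3) * B = B * (r₁ x : M3) := hBg ⟨r₁ x, x, rfl⟩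
  rw [heq _ x (hs ⟨r₁ x, x, rfl⟩)] at h1
  refine Units.ext ?_
  rw [Units.val_mul, Units.val_mul, hB', ← h1, mul_assoc, ← hB', Units.mul_inv, mul_one]

end CfsgLib.Perm.Trans.ThreeRes
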