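import Cfsg.Prelude.Def_GeometricClasses
import Cfsg.Agent.Lib.Perm.Trans.ThreeDim.Unip

/-!
# The residual class in dimension three: the common setup

`Quasi P`: a perfect absolutely irreducible subgroup of the special linear group of degree three,
simple modulo scalars. The three parts of the classification meet in `HasDihedralTwo`.
-/

set_option autoImplicit false
set_option linter.all false

namespace CfsgLib.Perm.Trans.ThreeRes

open scoped Matrix commutatorElement
open Matrix Cfsg.Geo CfsgLib.Perm.Trans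

variable {F : Type*} [Field F]

/-- a perfect absolutely irreducible subgroup of `SL(3)`, simple modulo scalars -/
structure Quasi (P : Subgroup (GL (Fin 3) F)) : Prop where
  le_sl : P ≤ specialLinear (Fin 3) F
  perfect : ⁅P, P⁆ = P
  simple : IsSimpleGroup (P ⧸ (scalars (Fin 3) F).subgroupOf P)
  nonabelian : ¬ IsMulCommutative (P ⧸ (scalars (Fin 3) F).subgroupOf P)
  absIrred : ActsAbsolutelyIrreducibly (matrixSet P)

/-- realisable over no proper subfield -/
def NoSubfield (P : Subgroup (GL (Fin 3) F)) : Prop :=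
  ∀ F₀ : Subfield F, F₀ ≠ ⊤ → ¬ RealisableOver F₀ (matrixSet P)

/-- a nondegenerate quadratic form is fixed -/
def FixesQuad (P : Subgroup (GL (Fin 3) F)) : Prop :=
  ∃ Q : (Fin 3 → F) → F, IsNondegenerateQuadraticForm Q ∧ FixesQuadForm (matrixSet P) Q

/-- a nondegenerate unitary form is fixed -/
def FixesHerm (P : Subgroup (GL (Fin 3) F)) : Prop :=
  ∃ (σ : F ≃+* F) (f : (Fin 3 → F) → (Fin 3 → F) → F), IsUnitaryForm σ f ∧ FixesForm (matrixSet P) f

/-- the image modulo scalars has dihedral Sylow two-subgroups -/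
def HasDihedralTwo (P : Subgroup (GL (Fin 3) F)) : Prop :=
  ∃ (S : Sylow 2 (P ⧸ (scalars (Fin 3) F).subgroupOf P)) (n : ℕ), 2 ≤ n ∧
    Nonempty ((S : Subgroup (P ⧸ (scalars (Fin 3) F).subgroupOf P)) ≃* DihedralGroup n)

/-- a residual core inside `SL(3)` is `Quasi` and `NoSubfield` -/
theorem Quasi.of_core {H P : Subgroup (GL (Fin 3) F)} (h : IsResidualCore H P)
    (hH : H ≤ specialLinear (Fin 3) F) : Quasi P ∧ NoSubfield P :=
  ⟨⟨h.le.trans hH, h.perfect, h.simple, h.nonabelian, h.absIrred⟩, h.no_subfield⟩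

end CfsgLib.Perm.Trans.ThreeRes
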