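import Cfsg.Agent.Lib.Perm.Dickson.Finite
import Cfsg.Agent.Lib.Perm.Dickson.ExcMax

/-!
# Elements of large order in projective groups of order prime to the characteristic

In a subgroup of `PGL(2, q)` of order prime to the characteristic two elements of order at least six
commute, and two elements of order four commute or have products of order three.
-/

set_option autoImplicit false
set_option linter.all false

namespace CfsgLib.Perm.Trans.ThreeRes

open CfsgLib.Perm.Dickson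

variable {F : Type*} [Field F] [Finite F] (p : ℕ) [Fact p.Prime] [CharP F p]

theorem perm_four_product : ∀ g h : Equiv.Perm (Fin 4), g * g * (g * g) = 1 → g * g ≠ 1 → h * h * (h * h) = 1 →
    h * h ≠ 1 → g * h ≠ h * g → g * h * (g * h) * (g * h) = 1 ∧ g * h⁻¹ * (g * h⁻¹) * (g * h⁻¹) = 1 := by
  decide +kernel

theorem perm_four_orders : ∀ g : Equiv.Perm (Fin 4), g ^ 2 = 1 ∨ g ^ 3 = 1 ∨ g ^ 4 = 1 := by decide +kernel

theorem alt_four_orders : ∀ g : alternatingGroup (Fin 4), g ^ 2 = 1 ∨ g ^ 3 = 1 := by decide +kernel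

theorem alt_five_orders : ∀ g : alternatingGroup (Fin 5), g ^ 2 = 1 ∨ g ^ 3 = 1 ∨ g ^ 5 = 1 := by decide +kernel

theorem orderOf_lt_six {G : Type*} [Group G] {g : G} (h : g ^ 2 = 1 ∨ g ^ 3 = 1 ∨ g ^ 4 = 1 ∨ g ^ 5 = 1) :
    orderOf g < 6 := by
  rcases h with h | h | h | h <;>
    exact lt_of_le_of_lt (Nat.le_of_dvd (by norm_num) (orderOf_dvd_of_pow_eq_one h)) (by norm_num)

/-- the structure of a group of order prime to the characteristic, as far as needed -/
theorem coprime_cases {H : Subgroup (G2 F)} (hcop : ¬ p ∣ Nat.card H) :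
    (∀ g ∈ H, ∀ h ∈ H, g ^ 2 ≠ 1 → h ^ 2 ≠ 1 → g * h = h * g) ∨
      Nonempty (H ≃* alternatingGroup (Fin 4)) ∨ Nonempty (H ≃* Equiv.Perm (Fin 4)) ∨
      Nonempty (H ≃* alternatingGroup (Fin 5)) := by
  haveI := finite_G2 (F := F)
  haveI := charP_Kc (F := F) p
  have hpair : ∀ a b : P2 (Kc F), a ≠ b → ∀ g h : G2 F, g ∈ pairFix a b → h ∈ pairFix a b → g * h = h * g := by
    intro a b hab g h hg hh
    refine mapG_injective (iF F) ?_
    rw [map_mul, map_mul]
    obtain ⟨σ, s1, s2⟩ := exists_move_two hab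
    obtain ⟨hga, hgb⟩ := mem_pairFix.1 hg
    obtain ⟨hha, hhb⟩ := mem_pairFix.1 hh
    obtain ⟨u, hu⟩ := eq_di_of_fix_two (g := σ * mapG (iF F) g * σ⁻¹) (by rw [conj_smul_eq s1, hga, s1])
      (by rw [conj_smul_eq s2, hgb, s2])
    obtain ⟨v, hv⟩ := eq_di_of_fix_two (g := σ * mapG (iF F) h * σ⁻¹) (by rw [conj_smul_eq s1, hha, s1])
      (by rw [conj_smul_eq s2, hhb, s2])
    have hc : (σ * mapG (iF F) g * σ⁻¹) * (σ * mapG (iF F) h * σ⁻¹) =
        (σ * mapG (iF F) h * σ⁻¹) * (σ * mapG (iF F) g * σ⁻¹) := by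
      rw [hu, hv, di_mul, di_mul, mul_comm]
    rw [conj_mul, conj_mul] at hc
    exact mul_left_cancel (mul_right_cancel hc)
  cases classify_finite p H with
  | borel x hx =>
    left
    intro g hg h hh _ _
    haveI : Finite (H.map (mapG (iF F))) := Finite.of_equiv _ (H.equivMapOfInjective _ (mapG_injective _)).toEquiv
    have hcyc := isCyclic_of_fix (H.map (mapG (iF F))) (x := mapP (iF F) x)
      (by rintro _ ⟨k, hk, rfl⟩; rw [map_smul_pt, hx k hk]) (by
        rintro _ ⟨k, hk, rfl⟩ hk'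
        have hp1 := pow_char_of_single p (by rw [map_smul_pt, hx k hk]) hk'
        rw [← map_pow, map_eq_one_iff _ (mapG_injective _)] at hp1
        have hd : orderOf (⟨k, hk⟩ : H) ∣ p := orderOf_dvd_of_pow_eq_one (Subtype.ext hp1)
        rcases (Nat.dvd_prime Fact.out).1 hd with h1 | h1
        · rw [orderOf_eq_one_iff] at h1
          rw [show k = 1 from congrArg Subtype.val h1, map_one]
        · exact absurd (h1 ▸ orderOf_dvd_natCard (⟨k, hk⟩ : H)) hcop)
    letI := hcyc.commGroup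
    refine mapG_injective (iF F) ?_
    rw [map_mul, map_mul]
    exact congrArg Subtype.val (mul_comm (⟨_, g, hg, rfl⟩ : H.map (mapG (iF F))) ⟨_, h, hh, rfl⟩)
  | cyclic a b hg h _ => exact Or.inl fun x hx y hy _ _ => hpair a b hg.1 x y (h hx) (h hy)
  | dihedral a b hg h hn hC =>
    refine Or.inl fun x hx y hy hx2 hy2 => ?_
    have key : ∀ z ∈ H, z ^ 2 ≠ 1 → z ∈ pairFix a b := fun z hz hz2 => by
      by_contra hcon
      exact hz2 (by rw [pow_two]; exact sq_of_swap hg.1 (h hz) hcon)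
    exact hpair a b hg.1 x y (key x hx hx2) (key y hy hy2)
  | a4 _ _ _ h => exact Or.inr (Or.inl h)
  | s4 _ _ _ h => exact Or.inr (Or.inr (Or.inl h))
  | a5 _ _ _ h => exact Or.inr (Or.inr (Or.inr h))
  | subfield σ F1 h3 h =>
    exfalso
    refine hcop ?_
    rw [← card_conjG (G := H) σ]
    have hmem : mapG F1.subtype (tr (1 : F1)) ∈ conjG σ H := by
      rcases h with h | ⟨-, h⟩ <;> rw [h]
      · exact ⟨_, rfl⟩
      · exact ⟨_, tr_mem_psl _, rfl⟩
    rw [mapG_tr, map_one] at hmem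
    have hp1 : orderOf (⟨_, hmem⟩ : conjG σ H) = p := by
      haveI : Fact p.Prime := inferInstance
      refine orderOf_eq_prime (Subtype.ext ?_) (fun e => ?_)
      · show tr (1 : F) ^ p = 1
        rw [tr_pow, CharP.cast_eq_zero F p, zero_mul, tr_zero]
      · have e' : tr (1 : F) = tr 0 := by rw [tr_zero]; exact congrArg Subtype.val e
        exact one_ne_zero (tr_injective e')
    exact hp1 ▸ orderOf_dvd_natCard (⟨_, hmem⟩ : conjG σ H)

/-- elements of order at least six commute -/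
theorem comm_of_six_le {H : Subgroup (G2 F)} (hcop : ¬ p ∣ Nat.card H) {g h : G2 F} (hg : g ∈ H) (hh : h ∈ H)
    (hg6 : 6 ≤ orderOf g) (hh6 : 6 ≤ orderOf h) : g * h = h * g := by
  have hsq : ∀ z : G2 F, 6 ≤ orderOf z → z ^ 2 ≠ 1 := fun z hz e => absurd (orderOf_lt_six (Or.inl e)) (not_lt.2 hz)
  rcases coprime_cases p hcop with h' | ⟨⟨e⟩⟩ | ⟨⟨e⟩⟩ | ⟨⟨e⟩⟩
  · exact h' g hg h hh (hsq g hg6) (hsq h hh6)
  all_goals
    exfalso
    rw [← Subgroup.orderOf_mk g hg, ← e.orderOf_eq] at hg6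
    refine absurd (orderOf_lt_six ?_) (not_lt.2 hg6)
  · rcases alt_four_orders (e ⟨g, hg⟩) with h | h <;> simp [h]
  · rcases perm_four_orders (e ⟨g, hg⟩) with h | h | h <;> simp [h]
  · rcases alt_five_orders (e ⟨g, hg⟩) with h | h | h <;> simp [h]

/-- two elements of order four commute or have products of order three -/
theorem four_products {H : Subgroup (G2 F)} (hcop : ¬ p ∣ Nat.card H) {g h : G2 F} (hg : g ∈ H) (hh : h ∈ H)
    (hg4 : orderOf g = 4) (hh4 : orderOf h = 4) (hne : g * h ≠ h * g) :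
    (g * h) ^ 3 = 1 ∧ (g * h⁻¹) ^ 3 = 1 := by
  have hsq : ∀ z : G2 F, orderOf z = 4 → z ^ 2 ≠ 1 := fun z hz e => by
    have := orderOf_dvd_of_pow_eq_one e
    rw [hz] at this
    norm_num at this
  rcases coprime_cases p hcop with h' | ⟨⟨e⟩⟩ | ⟨⟨e⟩⟩ | ⟨⟨e⟩⟩
  · exact absurd (h' g hg h hh (hsq g hg4) (hsq h hh4)) hne
  · exfalso
    rw [← Subgroup.orderOf_mk g hg, ← e.orderOf_eq] at hg4
    rcases alt_four_orders (e ⟨g, hg⟩) with h | h <;>
      · have := orderOf_dvd_of_pow_eq_one h; rw [hg4] at this; norm_num at this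
  · obtain ⟨G', hG'⟩ : ∃ G', G' = e ⟨g, hg⟩ := ⟨_, rfl⟩
    obtain ⟨H', hH'⟩ : ∃ H', H' = e ⟨h, hh⟩ := ⟨_, rfl⟩
    have hgo : orderOf G' = 4 := by rw [hG', e.orderOf_eq, Subgroup.orderOf_mk, hg4]
    have hho : orderOf H' = 4 := by rw [hH', e.orderOf_eq, Subgroup.orderOf_mk, hh4]
    have h4 : ∀ z : Equiv.Perm (Fin 4), orderOf z = 4 → z * z * (z * z) = 1 ∧ z * z ≠ 1 := fun z hz => by
      refine ⟨?_, fun e => ?_⟩
      · have := pow_orderOf_eq_one z
        rw [hz] at this
        rw [← pow_two, ← pow_two, ← pow_mul]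
        exact this
      · rw [← pow_two] at e
        have := orderOf_dvd_of_pow_eq_one e
        rw [hz] at this; norm_num at this
    obtain ⟨k1, k2⟩ := perm_four_product G' H' (h4 _ hgo).1 (h4 _ hgo).2 (h4 _ hho).1 (h4 _ hho).2 (fun he => hne (by
      rw [hG', hH', ← map_mul, ← map_mul] at he
      exact congrArg Subtype.val (e.injective he)))
    rw [← pow_three'] at k1 k2
    rw [hG', hH', ← map_mul, ← map_pow, map_eq_one_iff _ e.injective] at k1
    rw [hG', hH', ← map_inv, ← map_mul, ← map_pow, map_eq_one_iff _ e.injective] at k2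
    exact ⟨congrArg Subtype.val k1, congrArg Subtype.val k2⟩
  · exfalso
    rw [← Subgroup.orderOf_mk g hg, ← e.orderOf_eq] at hg4
    rcases alt_five_orders (e ⟨g, hg⟩) with h | h | h <;>
      · have := orderOf_dvd_of_pow_eq_one h; rw [hg4] at this; norm_num at this

end CfsgLib.Perm.Trans.ThreeRes
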